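import Mathlib

set_option autoImplicit false
universe u

namespace Groth.Agent.GalCohLib

variable {K L : Type u} [Field K] [Field L] [Algebra K L] [IsGalois K L]

theorem exists_level {A : Type*} (a : (L ≃ₐ[K] L) → A) (hlc : IsLocallyConstant a) :
    ∃ E : FiniteGaloisIntermediateField K L, ∀ σ ∈ E.fixingSubgroup, a σ = a 1 := by
  obtain ⟨E, hE⟩ := (InfiniteGalois.krullTopology_mem_nhds_one_iff_of_isGalois _).1
    ((hlc.isOpen_fiber (a 1)).mem_nhds (x := (1 : L ≃ₐ[K] L)) rfl)
  exact ⟨E, fun σ hσ => hE hσ⟩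

/-- The values on a level are fixed by that level. -/
theorem mem_of_fixed (E : IntermediateField K L) (x : L)
    (hx : ∀ σ ∈ E.fixingSubgroup, σ x = x) : x ∈ E := by
  rw [← InfiniteGalois.fixedField_fixingSubgroup E]
  exact fun σ => hx σ σ.2

theorem exists_sub_eq (a : (L ≃ₐ[K] L) → L) (ha : ∀ σ τ, a (σ * τ) = a σ + σ (a τ))
    (hlc : IsLocallyConstant a) : ∃ y : L, ∀ σ, a σ = σ y - y := by
  obtain ⟨E, hE⟩ := exists_level a hlc
  have h1 : a 1 = 0 := by simpa using ha 1 1
  rw [h1] at hE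
  let r := AlgEquiv.restrictNormalHom (F := K) (K₁ := L) E
  have hr : Function.Surjective r := AlgEquiv.restrictNormalHom_surjective L
  have hcompat : ∀ σ τ, r σ = r τ → a σ = a τ := by
    intro σ τ h
    have hk : σ⁻¹ * τ ∈ E.fixingSubgroup := by
      rw [← IntermediateField.restrictNormalHom_ker, MonoidHom.mem_ker]
      simp [r] at h ⊢; simp [h]
    conv_rhs => rw [show τ = σ * (σ⁻¹ * τ) by group, ha, hE _ hk, map_zero, add_zero]
  have hmem : ∀ σ, a σ ∈ E.toIntermediateField := fun σ => mem_of_fixed _ _ fun τ hτ => by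
    have hk : σ⁻¹ * τ * σ ∈ E.fixingSubgroup := by
      have hN : E.fixingSubgroup.Normal := by rw [← IntermediateField.restrictNormalHom_ker]; infer_instance
      simpa using hN.conj_mem τ hτ σ⁻¹
    have h2 := ha τ σ
    rw [show τ * σ = σ * (σ⁻¹ * τ * σ) by group, ha, hE _ hk, hE τ hτ, map_zero, add_zero,
      zero_add] at h2
    exact h2.symm
  choose s hs using hr
  let b : (E ≃ₐ[K] E) → E := fun σ => ⟨a (s σ), hmem _⟩
  obtain ⟨e, he⟩ := Algebra.trace_surjective K E 1
  let y : E := -∑ τ, b τ * τ e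
  refine ⟨(y : L), fun σ => ?_⟩
  have hb : ∀ σ τ, b (σ * τ) = b σ + σ (b τ) := by
    intro σ τ
    apply Subtype.ext
    change a (s (σ * τ)) = a (s σ) + (σ (b τ) : L)
    rw [hcompat (s (σ * τ)) (s σ * s τ) (by rw [map_mul, hs, hs, hs]), ha]
    congr 1
    conv_rhs => rw [← hs σ]
    exact (AlgEquiv.restrictNormal_commutes (s σ) E (b τ)).symm
  have hsum : ∑ τ : (E ≃ₐ[K] E), τ e = 1 := by
    rw [← trace_eq_sum_automorphisms, he, map_one]
  have key : r σ y = y + b (r σ) := by
    simp only [y, map_neg, map_sum, map_mul]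
    have : ∀ τ, r σ (b τ) * r σ (τ e) = b (r σ * τ) * (r σ * τ) e - b (r σ) * (r σ * τ) e := by
      intro τ; rw [hb]; simp [AlgEquiv.mul_apply]; ring
    simp only [this, Finset.sum_sub_distrib, ← Finset.mul_sum]
    rw [Fintype.sum_equiv (Equiv.mulLeft (r σ)) (fun x => b (r σ * x) * (r σ * x) e) (fun τ => b τ * τ e) (fun _ => rfl),
      Fintype.sum_equiv (Equiv.mulLeft (r σ)) (fun x => (r σ * x) e) (fun τ => τ e) (fun _ => rfl), hsum]
    ring
  have h2 := congrArg (fun z : E => (z : L)) key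
  simp only [IntermediateField.coe_add] at h2
  rw [show ((r σ y : E) : L) = σ (y : L) from AlgEquiv.restrictNormal_commutes σ E y] at h2
  rw [hcompat σ (s (r σ)) (hs _).symm]
  change _ = σ (y : L) - (y : L)
  rw [h2]; simp [b]

theorem exists_div_eq (a : (L ≃ₐ[K] L) → Lˣ) (ha : ∀ σ τ, a (σ * τ) = a σ * σ • a τ)
    (hlc : IsLocallyConstant a) : ∃ c : Lˣ, ∀ σ, a σ = c⁻¹ * σ • c := by
  obtain ⟨E, hE⟩ := exists_level a hlc
  have h1 : a 1 = 1 := by simpa using ha 1 1
  rw [h1] at hE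
  let r := AlgEquiv.restrictNormalHom (F := K) (K₁ := L) E
  have hr : Function.Surjective r := AlgEquiv.restrictNormalHom_surjective L
  have hcompat : ∀ σ τ, r σ = r τ → a σ = a τ := by
    intro σ τ h
    have hk : σ⁻¹ * τ ∈ E.fixingSubgroup := by
      rw [← IntermediateField.restrictNormalHom_ker, MonoidHom.mem_ker]
      simp [r] at h ⊢; simp [h]
    conv_rhs => rw [show τ = σ * (σ⁻¹ * τ) by group, ha, hE _ hk, smul_one, mul_one]
  have hmem : ∀ σ, (a σ : L) ∈ E.toIntermediateField := fun σ => mem_of_fixed _ _ fun τ hτ => by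
    have hk : σ⁻¹ * τ * σ ∈ E.fixingSubgroup := by
      have hN : E.fixingSubgroup.Normal := by rw [← IntermediateField.restrictNormalHom_ker]; infer_instance
      simpa using hN.conj_mem τ hτ σ⁻¹
    have h2 := ha τ σ
    rw [show τ * σ = σ * (σ⁻¹ * τ * σ) by group, ha, hE _ hk, hE τ hτ, smul_one, mul_one,
      one_mul] at h2
    exact (congrArg Units.val h2).symm
  choose s hs using hr
  let b : (E ≃ₐ[K] E) → Eˣ := fun σ => Units.mk0 ⟨(a (s σ) : L), hmem _⟩
    (fun h => (a (s σ)).ne_zero (congrArg Subtype.val h))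
  have hb : groupCohomology.IsMulCocycle₁ b := by
    intro σ τ
    apply Units.ext; apply Subtype.ext
    change (a (s (σ * τ)) : L) = (σ (b τ : E) : L) * (a (s σ) : L)
    rw [hcompat (s (σ * τ)) (s σ * s τ) (by rw [map_mul, hs, hs, hs]), ha, Units.val_mul, mul_comm]
    congr 1
    conv_rhs => rw [← hs σ]
    exact (AlgEquiv.restrictNormal_commutes (s σ) E (b τ : E)).symm
  obtain ⟨β, hβ⟩ := groupCohomology.isMulCoboundary₁_of_isMulCocycle₁_of_aut_to_units b hb
  refine ⟨Units.map (algebraMap E L : E →* L) β, fun σ => ?_⟩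
  rw [hcompat σ (s (r σ)) (hs _).symm]
  apply Units.ext
  have h2 := congrArg (fun z : Eˣ => ((z : E) : L)) (hβ (r σ))
  simp only [Units.val_div_eq_div_val, IntermediateField.coe_div] at h2
  rw [Units.val_mul, Units.val_inv_eq_inv_val]
  change (a (s (r σ)) : L) = ((β : E) : L)⁻¹ * σ ((β : E) : L)
  rw [show σ ((β : E) : L) = ((r σ (β : E) : E) : L) from
    (AlgEquiv.restrictNormal_commutes σ E (β : E)).symm, inv_mul_eq_div]
  exact h2.symm

end Groth.Agent.GalCohLib
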