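import Mathlib

set_option autoImplicit false
open scoped TensorProduct
universe u v w

namespace Groth.Agent.GalCohLib.SymSq

variable {V : Type v} [AddCommGroup V] [Module (ZMod 2) V] {ι : Type w} (b : Module.Basis ι (ZMod 2) V)

/-- alternating tensors' kernel -/
noncomputable abbrev Na : Submodule (ZMod 2) (V ⊗[ZMod 2] V) :=
  Submodule.span (ZMod 2) (Set.range fun v : V => v ⊗ₜ[ZMod 2] v)

/-- symmetrised tensors -/
noncomputable abbrev Ns : Submodule (ZMod 2) (V ⊗[ZMod 2] V) :=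
  Submodule.span (ZMod 2) (Set.range fun p : V × V => p.1 ⊗ₜ[ZMod 2] p.2 + p.2 ⊗ₜ[ZMod 2] p.1)

/-- coordinate at `(i,j)` -/
noncomputable def cd (i j : ι) : (V ⊗[ZMod 2] V) →ₗ[ZMod 2] ZMod 2 :=
  (Finsupp.lapply (i, j)).comp (b.tensorProduct b).repr.toLinearMap

theorem cd_tmul (i j : ι) (x y : V) : cd b i j (x ⊗ₜ[ZMod 2] y) = b.repr x i * b.repr y j := by
  simp [cd, mul_comm]

theorem ext_cd {z z' : V ⊗[ZMod 2] V} (h : ∀ i j, cd b i j z = cd b i j z') : z = z' :=
  (b.tensorProduct b).repr.injective (Finsupp.ext fun p => h p.1 p.2)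

theorem two_eq (a : ZMod 2) : a + a = 0 := CharTwo.add_self_eq_zero a

theorem Ns_le_Na : (Ns : Submodule (ZMod 2) (V ⊗[ZMod 2] V)) ≤ Na := by
  refine Submodule.span_le.2 ?_
  rintro _ ⟨⟨x, y⟩, rfl⟩
  have : x ⊗ₜ[ZMod 2] y + y ⊗ₜ[ZMod 2] x = (x + y) ⊗ₜ[ZMod 2] (x + y) - x ⊗ₜ x - y ⊗ₜ y := by
    simp only [TensorProduct.add_tmul, TensorProduct.tmul_add]; abel
  show x ⊗ₜ[ZMod 2] y + y ⊗ₜ[ZMod 2] x ∈ _
  rw [this]
  exact Submodule.sub_mem _ (Submodule.sub_mem _ (Submodule.subset_span ⟨_, rfl⟩) (Submodule.subset_span ⟨_, rfl⟩))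
    (Submodule.subset_span ⟨_, rfl⟩)

theorem symm_of_mem_Na {z : V ⊗[ZMod 2] V} (h : z ∈ (Na : Submodule (ZMod 2) (V ⊗[ZMod 2] V))) (i j : ι) :
    cd b i j z = cd b j i z := by
  induction h using Submodule.span_induction with
  | mem x hx => obtain ⟨v, rfl⟩ := hx; rw [cd_tmul, cd_tmul, mul_comm]
  | zero => simp
  | add x y _ _ hx hy => rw [map_add, map_add, hx, hy]
  | smul a x _ hx => rw [map_smul, map_smul, hx]

theorem diag_of_mem_Ns {z : V ⊗[ZMod 2] V} (h : z ∈ (Ns : Submodule (ZMod 2) (V ⊗[ZMod 2] V))) (i : ι) :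
    cd b i i z = 0 := by
  induction h using Submodule.span_induction with
  | mem x hx =>
    obtain ⟨⟨x, y⟩, rfl⟩ := hx
    simp only [map_add, cd_tmul, mul_comm, two_eq]
  | zero => simp
  | add x y _ _ hx hy => rw [map_add, hx, hy, add_zero]
  | smul a x _ hx => rw [map_smul, hx, smul_zero]

theorem cd_comm (i j : ι) (z : V ⊗[ZMod 2] V) :
    cd b i j (TensorProduct.comm (ZMod 2) V V z) = cd b j i z := by
  induction z with
  | zero => simp
  | tmul x y => rw [TensorProduct.comm_tmul, cd_tmul, cd_tmul, mul_comm]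
  | add x y hx hy => rw [map_add, map_add, map_add, hx, hy]

theorem add_comm_mem_Ns (z : V ⊗[ZMod 2] V) :
    z + TensorProduct.comm (ZMod 2) V V z ∈ (Ns : Submodule (ZMod 2) (V ⊗[ZMod 2] V)) := by
  induction z with
  | zero => simp
  | tmul x y => exact Submodule.subset_span ⟨(x, y), rfl⟩
  | add x y hx hy =>
    rw [map_add, add_add_add_comm]
    exact Submodule.add_mem _ hx hy

/-- the tensor with prescribed coordinates -/
noncomputable def ofCd (c : ι × ι →₀ ZMod 2) : V ⊗[ZMod 2] V := (b.tensorProduct b).repr.symm c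

theorem cd_ofCd (c : ι × ι →₀ ZMod 2) (i j : ι) : cd b i j (ofCd b c) = c (i, j) := by
  simp [cd, ofCd]

theorem mem_Ns_iff (z : V ⊗[ZMod 2] V) :
    z ∈ (Ns : Submodule (ZMod 2) (V ⊗[ZMod 2] V)) ↔ (∀ i j, cd b i j z = cd b j i z) ∧ ∀ i, cd b i i z = 0 := by
  classical
  refine ⟨fun h => ⟨symm_of_mem_Na b (Ns_le_Na h), diag_of_mem_Ns b h⟩, ?_⟩
  rintro ⟨hs, hd⟩
  letI : LinearOrder ι := linearOrderOfSTO WellOrderingRel
  set s := ofCd b (((b.tensorProduct b).repr z).filter fun p => p.1 < p.2) with hs'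
  have hz : z = s + TensorProduct.comm (ZMod 2) V V s := by
    refine ext_cd b fun i j => ?_
    rw [map_add, cd_comm, hs', cd_ofCd, cd_ofCd, Finsupp.filter_apply, Finsupp.filter_apply]
    rcases lt_trichotomy i j with h | h | h
    · rw [if_pos h, if_neg h.not_gt, add_zero]; rfl
    · subst h; rw [if_neg (lt_irrefl _), hd, add_zero]
    · rw [if_neg h.not_gt, if_pos h, zero_add]; exact hs i j
  rw [hz]; exact add_comm_mem_Ns s

theorem mem_Na_iff (z : V ⊗[ZMod 2] V) :
    z ∈ (Na : Submodule (ZMod 2) (V ⊗[ZMod 2] V)) ↔ ∀ i j, cd b i j z = cd b j i z := by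
  classical
  refine ⟨symm_of_mem_Na b, fun hs => ?_⟩
  set d := ofCd b (((b.tensorProduct b).repr z).filter fun p => p.1 = p.2) with hd'
  have hd : d ∈ (Na : Submodule (ZMod 2) (V ⊗[ZMod 2] V)) := by
    rw [hd', ofCd, Module.Basis.repr_symm_apply, Finsupp.linearCombination_apply, Finsupp.sum]
    refine Submodule.sum_mem _ fun p hp => Submodule.smul_mem _ _ ?_
    rw [Finsupp.support_filter, Finset.mem_filter] at hp
    obtain ⟨i, j⟩ := p
    obtain ⟨-, rfl : i = j⟩ := hp
    rw [Module.Basis.tensorProduct_apply]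
    exact Submodule.subset_span ⟨_, rfl⟩
  have : z - d ∈ (Ns : Submodule (ZMod 2) (V ⊗[ZMod 2] V)) := by
    refine (mem_Ns_iff b _).2 ⟨fun i j => ?_, fun i => ?_⟩
    · rw [map_sub, map_sub, hs i j, hd', cd_ofCd, cd_ofCd, Finsupp.filter_apply, Finsupp.filter_apply]
      by_cases h : i = j
      · subst h; rfl
      · rw [if_neg h, if_neg (Ne.symm h)]
    · rw [map_sub, hd', cd_ofCd, Finsupp.filter_apply, if_pos rfl]; exact sub_self _
  have h2 := Submodule.add_mem _ (Ns_le_Na this) hd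
  rwa [sub_add_cancel] at h2

theorem cd_map [Fintype ι] (f : V →ₗ[ZMod 2] V) (i j : ι) (z : V ⊗[ZMod 2] V) :
    cd b i j (TensorProduct.map f f z) = ∑ k, ∑ l, b.repr (f (b k)) i * b.repr (f (b l)) j * cd b k l z := by
  induction z with
  | zero => simp
  | tmul x y =>
    rw [TensorProduct.map_tmul, cd_tmul]
    conv_lhs => rw [← b.sum_repr x, ← b.sum_repr y]
    simp only [map_sum, map_smul, Finsupp.coe_finsetSum, Finset.sum_apply, Finsupp.smul_apply, smul_eq_mul,
      Finset.sum_mul, cd_tmul]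
    refine Finset.sum_congr rfl fun k _ => ?_
    rw [Finset.mul_sum]
    refine Finset.sum_congr rfl fun l _ => ?_
    ring
  | add x y hx hy => simp only [map_add, hx, hy, mul_add, Finset.sum_add_distrib]

variable {G : Type u} [Group G] (ρ : Representation (ZMod 2) G V)

theorem exists_perm_splitting (hb : ∀ g : G, ∀ i : ι, ∃ j : ι, ρ g (b i) = b j) :
    ∃ W : Submodule (ZMod 2) (V ⊗[ZMod 2] V),
      (∀ g : G, ∀ w ∈ W, ρ.tprod ρ g w ∈ W) ∧ W ⊓ Na = Ns ∧ W ⊔ Na = ⊤ := by
  classical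
  refine ⟨⨅ i, LinearMap.ker (cd b i i), fun g w hw => ?_, ?_, ?_⟩
  · simp only [Submodule.mem_iInf, LinearMap.mem_ker] at hw ⊢
    intro i
    choose σ hσ using hb g
    have hinj : Function.Injective σ := fun k l h => b.injective (by
      have h2 : ρ g (b k) = ρ g (b l) := by rw [hσ, hσ, h]
      simpa using congrArg (ρ g⁻¹) h2)
    rw [Representation.tprod_apply]
    have hrepr : ∀ z : V ⊗[ZMod 2] V, cd b i i (TensorProduct.map (ρ g) (ρ g) z) =
        ((b.tensorProduct b).repr z).sum fun p a => if σ p.1 = i ∧ σ p.2 = i then a else 0 := by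
      intro z
      conv_lhs => rw [← (b.tensorProduct b).linearCombination_repr z, Finsupp.linearCombination_apply]
      rw [Finsupp.sum, Finsupp.sum, map_sum, map_sum]
      refine Finset.sum_congr rfl fun p _ => ?_
      rw [map_smul, map_smul, Module.Basis.tensorProduct_apply', TensorProduct.map_tmul, hσ, hσ, cd_tmul,
        b.repr_self, b.repr_self, Finsupp.single_apply, Finsupp.single_apply]
      by_cases h1 : σ p.1 = i <;> by_cases h2 : σ p.2 = i <;> simp [h1, h2]
    rw [hrepr, Finsupp.sum]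
    refine Finset.sum_eq_zero fun p _ => ?_
    split_ifs with h
    · obtain ⟨k, l⟩ := p
      obtain rfl : k = l := hinj (h.1.trans h.2.symm)
      exact hw k
    · rfl
  · refine le_antisymm (fun z hz => ?_) (le_inf (fun z hz => ?_) Ns_le_Na)
    · simp only [Submodule.mem_inf, Submodule.mem_iInf, LinearMap.mem_ker] at hz
      exact (mem_Ns_iff b z).2 ⟨(mem_Na_iff b z).1 hz.2, hz.1⟩
    · simp only [Submodule.mem_iInf, LinearMap.mem_ker]
      exact ((mem_Ns_iff b z).1 hz).2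
  · rw [eq_top_iff]
    intro z _
    set d := ofCd b (((b.tensorProduct b).repr z).filter fun p => p.1 = p.2) with hd'
    have hsym : ∀ i j, cd b i j d = cd b j i d := fun i j => by
      rw [hd', cd_ofCd, cd_ofCd, Finsupp.filter_apply, Finsupp.filter_apply]
      by_cases h : i = j
      · subst h; rfl
      · rw [if_neg h, if_neg (Ne.symm h)]
    rw [← sub_add_cancel z d]
    refine Submodule.add_mem_sup ?_ ((mem_Na_iff b d).2 hsym)
    simp only [Submodule.mem_iInf, LinearMap.mem_ker]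
    intro i
    rw [map_sub, hd', cd_ofCd, Finsupp.filter_apply, if_pos rfl]; exact sub_self _

/-- a group of order two acts by a permutation module -/
theorem exists_perm_basis_of_card_two (hG : Nat.card G = 2) [Module.Finite (ZMod 2) V] :
    ∃ (κ : Type v) (e : Module.Basis κ (ZMod 2) V), ∀ g : G, ∀ i : κ, ∃ j : κ, ρ g (e i) = e j := by
  classical
  haveI : Finite G := Nat.finite_of_card_ne_zero (by omega)
  obtain ⟨σ, hσ⟩ : ∃ σ : G, σ ≠ 1 := by
    haveI : Nontrivial G := Finite.one_lt_card_iff_nontrivial.1 (by omega)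
    exact exists_ne 1
  have hall : ∀ g : G, g = 1 ∨ g = σ := by
    intro g
    by_contra h
    push Not at h
    haveI := Fintype.ofFinite G
    have := Finset.card_le_univ ({1, σ, g} : Finset G)
    rw [Finset.card_insert_of_notMem (by simp [Ne.symm hσ, Ne.symm h.1]),
      Finset.card_insert_of_notMem (by simp [Ne.symm h.2]), Finset.card_singleton, ← Nat.card_eq_fintype_card, hG] at this
    omega
  have hσ2 : σ * σ = 1 := (hall (σ * σ)).resolve_right (fun h => hσ (mul_eq_left.1 h))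
  set N : V →ₗ[ZMod 2] V := ρ σ - 1
  have hχ : ∀ x : V, -x = x := fun x => by
    rw [← neg_one_smul (ZMod 2) x, CharTwo.neg_eq, one_smul]
  have hNN : ∀ x, N (N x) = 0 := fun x => by
    have : ρ σ (ρ σ x) = x := by rw [← Module.End.mul_apply, ← map_mul, hσ2, map_one, Module.End.one_apply]
    simp only [N, LinearMap.sub_apply, Module.End.one_apply, map_sub, this]
    rw [← neg_sub (ρ σ x) x, hχ, sub_self]
  obtain ⟨U, hU⟩ := Submodule.exists_isCompl (LinearMap.ker N)
  let bu := Module.Free.chooseBasis (ZMod 2) U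
  obtain ⟨C, hC⟩ := Submodule.exists_isCompl ((LinearMap.range N).comap (LinearMap.ker N).subtype)
  let bc := Module.Free.chooseBasis (ZMod 2) C
  let fam : Module.Free.ChooseBasisIndex (ZMod 2) U ⊕ Module.Free.ChooseBasisIndex (ZMod 2) U ⊕
      Module.Free.ChooseBasisIndex (ZMod 2) C → V :=
    Sum.elim (fun i => (bu i : V)) (Sum.elim (fun i => ρ σ (bu i : V)) (fun i => ((bc i : LinearMap.ker N) : V)))
  have hli : LinearIndependent (ZMod 2) fam := by
    rw [Fintype.linearIndependent_iff]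
    intro g hg
    simp only [fam, Fintype.sum_sum_type, Sum.elim_inl, Sum.elim_inr] at hg
    set a := fun i => g (Sum.inl i)
    set a' := fun i => g (Sum.inr (Sum.inl i))
    set c := fun i => g (Sum.inr (Sum.inr i))
    set u := ∑ i, (a i + a' i) • bu i with hu
    set w := ∑ i, c i • bc i with hw
    have e : (u : V) + N (∑ i, a' i • (bu i : V)) + ((w : LinearMap.ker N) : V) = 0 := by
      rw [← hg, hu, hw]
      simp only [Submodule.coe_sum, Submodule.coe_smul, add_smul, Finset.sum_add_distrib, Submodule.coe_add]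
      simp only [N, LinearMap.sub_apply, Module.End.one_apply, map_sum, map_smul, a, a', c,
        Submodule.coe_sum, Submodule.coe_smul, Submodule.coe_add, smul_sub, Finset.sum_sub_distrib]
      abel
    have hu0 : (u : V) = 0 := by
      have hk : (u : V) ∈ LinearMap.ker N := by
        have h1 := congrArg N e
        rw [map_add, map_add, hNN, map_zero, LinearMap.mem_ker.1 (w : LinearMap.ker N).2] at h1
        simpa using h1
      have := hU.disjoint.le_bot ⟨hk, u.2⟩
      simpa using this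
    rw [hu0, zero_add] at e
    have hw0 : w = 0 := by
      have hr : (w : LinearMap.ker N) ∈ (LinearMap.range N).comap (LinearMap.ker N).subtype :=
        ⟨-∑ i, a' i • (bu i : V), by rw [map_neg]; exact (eq_neg_of_add_eq_zero_right e).symm⟩
      exact Subtype.ext ((Submodule.mem_bot _).1 (hC.disjoint.le_bot ⟨hr, w.2⟩))
    have ha' : ∀ i, a' i = 0 := by
      have hk : (∑ i, a' i • (bu i : V)) ∈ LinearMap.ker N := by
        rw [hw0] at e
        rw [LinearMap.mem_ker]
        simpa using e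
      have h0 : (∑ i, a' i • bu i : U) = 0 := by
        refine Subtype.ext ((Submodule.mem_bot (ZMod 2)).1 (hU.disjoint.le_bot ⟨?_, (∑ i, a' i • bu i : U).2⟩))
        simpa [Submodule.coe_sum] using hk
      exact Fintype.linearIndependent_iff.1 bu.linearIndependent _ h0
    have ha : ∀ i, a i + a' i = 0 := Fintype.linearIndependent_iff.1 bu.linearIndependent _ (Subtype.ext hu0)
    have hc0 : ∀ i, c i = 0 := Fintype.linearIndependent_iff.1 bc.linearIndependent _ hw0
    rintro (i | i | i)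
    · simpa [a, ha' i] using ha i
    · exact ha' i
    · exact hc0 i
  have hspan : ⊤ ≤ Submodule.span (ZMod 2) (Set.range fam) := by
    intro x _
    set S := Submodule.span (ZMod 2) (Set.range fam)
    have h1 : ∀ y : U, (y : V) ∈ S ∧ ρ σ (y : V) ∈ S := fun y => by
      rw [← bu.sum_repr y, Submodule.coe_sum, map_sum]
      exact ⟨Submodule.sum_mem _ fun i _ => Submodule.smul_mem _ _ (Submodule.subset_span ⟨Sum.inl i, rfl⟩),
        Submodule.sum_mem _ fun i _ => by
          rw [Submodule.coe_smul, map_smul]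
          exact Submodule.smul_mem _ _ (Submodule.subset_span ⟨Sum.inr (Sum.inl i), rfl⟩)⟩
    have h2 : ∀ y : C, ((y : LinearMap.ker N) : V) ∈ S := fun y => by
      rw [← bc.sum_repr y, Submodule.coe_sum, Submodule.coe_sum]
      exact Submodule.sum_mem _ fun i _ => Submodule.smul_mem _ _ (Submodule.subset_span ⟨Sum.inr (Sum.inr i), rfl⟩)
    obtain ⟨k, hk, y, hy, rfl⟩ := Submodule.mem_sup.1 (hU.sup_eq_top.symm ▸ Submodule.mem_top (x := x))
    refine Submodule.add_mem _ ?_ (h1 ⟨y, hy⟩).1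
    obtain ⟨r, hr, c, hc, hrc⟩ := Submodule.mem_sup.1 (hC.sup_eq_top.symm ▸ Submodule.mem_top (x := (⟨k, hk⟩ : LinearMap.ker N)))
    have : k = ((r : LinearMap.ker N) : V) + ((c : LinearMap.ker N) : V) := by
      have := congrArg Subtype.val hrc; simpa using this.symm
    rw [this]
    refine Submodule.add_mem _ ?_ (h2 ⟨c, hc⟩)
    obtain ⟨z, hz⟩ := hr
    obtain ⟨k', hk', y', hy', rfl⟩ := Submodule.mem_sup.1 (hU.sup_eq_top.symm ▸ Submodule.mem_top (x := z))
    change _ = ((r : LinearMap.ker N) : V) at hz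
    rw [← hz, map_add, LinearMap.mem_ker.1 hk', zero_add]
    exact Submodule.sub_mem _ (h1 ⟨y', hy'⟩).2 (h1 ⟨y', hy'⟩).1
  refine ⟨_, Module.Basis.mk hli hspan, fun g i => ?_⟩
  rcases hall g with hg | hg <;> rw [hg]
  · exact ⟨i, by rw [map_one, Module.End.one_apply]⟩
  · simp only [Module.Basis.mk_apply]
    have hinv : ∀ x, ρ σ (ρ σ x) = x := fun x => by
      rw [← Module.End.mul_apply, ← map_mul, hσ2, map_one, Module.End.one_apply]
    rcases i with i | i | i
    · exact ⟨Sum.inr (Sum.inl i), rfl⟩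
    · exact ⟨Sum.inl i, hinv _⟩
    · refine ⟨Sum.inr (Sum.inr i), ?_⟩
      have h := LinearMap.mem_ker.1 (bc i : LinearMap.ker N).2
      exact sub_eq_zero.1 h

theorem cd_two (M : Fin 2 → Fin 2 → ZMod 2) (z : Fin 2 → Fin 2 → ZMod 2)
    (h0 : z 0 0 = z 0 1 + z 1 0) (h1 : z 1 1 = z 0 1 + z 1 0) (hM : M 0 0 * M 1 1 + M 0 1 * M 1 0 = 1) :
    (∑ k, ∑ l, M k 0 * M l 0 * z k l) = (∑ k, ∑ l, M k 0 * M l 1 * z k l) + (∑ k, ∑ l, M k 1 * M l 0 * z k l) ∧
    (∑ k, ∑ l, M k 1 * M l 1 * z k l) = (∑ k, ∑ l, M k 0 * M l 1 * z k l) + (∑ k, ∑ l, M k 1 * M l 0 * z k l) := by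
  simp only [Fin.sum_univ_two]
  generalize M 0 0 = a, M 0 1 = c, M 1 0 = d, M 1 1 = e at hM ⊢
  generalize z 0 0 = p, z 0 1 = q, z 1 0 = r, z 1 1 = s at h0 h1 ⊢
  subst h0 h1
  revert a c d e q r
  decide

theorem exists_splitting_dim_two (b : Module.Basis (Fin 2) (ZMod 2) V) :
    ∃ W : Submodule (ZMod 2) (V ⊗[ZMod 2] V),
      (∀ g : G, ∀ w ∈ W, ρ.tprod ρ g w ∈ W) ∧ W ⊓ Na = Ns ∧ W ⊔ Na = ⊤ := by
  classical
  let L : Fin 2 → (V ⊗[ZMod 2] V) →ₗ[ZMod 2] ZMod 2 := fun i => cd b i i - (cd b 0 1 + cd b 1 0)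
  refine ⟨LinearMap.ker (L 0) ⊓ LinearMap.ker (L 1), fun g w hw => ?_, ?_, ?_⟩
  · simp only [L, Submodule.mem_inf, LinearMap.mem_ker, LinearMap.sub_apply, LinearMap.add_apply, sub_eq_zero] at hw ⊢
    rw [Representation.tprod_apply]
    simp only [cd_map]
    refine cd_two (fun k i => b.repr (ρ g (b k)) i) (fun k l => cd b k l w) hw.1 hw.2 ?_
    have hu : IsUnit (LinearMap.toMatrix b b (ρ g)).det := by
      rw [LinearMap.det_toMatrix]
      exact ((Group.isUnit g).map ρ).map LinearMap.det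
    have h1 : ∀ x : ZMod 2, IsUnit x → x = 1 := by decide
    have h2 := h1 _ hu
    rw [Matrix.det_fin_two] at h2
    simp only [LinearMap.toMatrix_apply] at h2
    rw [CharTwo.sub_eq_add] at h2
    linear_combination h2
  · refine le_antisymm (fun z hz => ?_) (le_inf (fun z hz => ?_) Ns_le_Na)
    · simp only [L, Submodule.mem_inf, LinearMap.mem_ker, LinearMap.sub_apply, LinearMap.add_apply, sub_eq_zero] at hz
      obtain ⟨⟨h0, h1⟩, hN⟩ := hz
      have hsym := (mem_Na_iff b z).1 hN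
      refine (mem_Ns_iff b z).2 ⟨hsym, Fin.forall_fin_two.2 ⟨?_, ?_⟩⟩
      · rw [h0, hsym 0 1, two_eq]
      · rw [h1, hsym 0 1, two_eq]
    · obtain ⟨hsym, hd⟩ := (mem_Ns_iff b z).1 hz
      simp [L, hd, hsym 0 1, two_eq]
  · rw [eq_top_iff]
    intro z _
    set d := (L 0 z) • (b 0 ⊗ₜ[ZMod 2] b 0) + (L 1 z) • (b 1 ⊗ₜ[ZMod 2] b 1) with hd
    rw [← sub_add_cancel z d]
    refine Submodule.add_mem_sup ?_ (Submodule.add_mem _ (Submodule.smul_mem _ _ (Submodule.subset_span ⟨_, rfl⟩))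
      (Submodule.smul_mem _ _ (Submodule.subset_span ⟨_, rfl⟩)))
    simp only [Submodule.mem_inf, LinearMap.mem_ker]
    constructor <;> simp [hd, L, cd_tmul, map_add, map_sub]

set_option synthInstance.maxSize 4096 in
/-- the quadratic lift in rank three -/
theorem cd_three (r s t : Fin 3 → ZMod 2) (p q w : ZMod 2)
    (hs : r 0 * s 1 * p + r 1 * s 0 * p + r 0 * s 2 * q + r 2 * s 0 * q + r 1 * s 2 * w + r 2 * s 1 * w = p)
    (ht : r 0 * t 1 * p + r 1 * t 0 * p + r 0 * t 2 * q + r 2 * t 0 * q + r 1 * t 2 * w + r 2 * t 1 * w = q)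
    (hu : s 0 * t 1 * p + s 1 * t 0 * p + s 0 * t 2 * q + s 2 * t 0 * q + s 1 * t 2 * w + s 2 * t 1 * w = w) :
    r 0 * r 0 * (p + q + p * q) + r 1 * r 1 * (p + w + p * w) + r 2 * r 2 * (q + w + q * w)
      + r 0 * r 1 * p + r 0 * r 2 * q + r 1 * r 2 * w = p + q + p * q ∧
    s 0 * s 0 * (p + q + p * q) + s 1 * s 1 * (p + w + p * w) + s 2 * s 2 * (q + w + q * w)
      + s 0 * s 1 * p + s 0 * s 2 * q + s 1 * s 2 * w = p + w + p * w ∧
    t 0 * t 0 * (p + q + p * q) + t 1 * t 1 * (p + w + p * w) + t 2 * t 2 * (q + w + q * w)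
      + t 0 * t 1 * p + t 0 * t 2 * q + t 1 * t 2 * w = q + w + q * w := by
  generalize r 0 = r0, r 1 = r1, r 2 = r2, s 0 = s0, s 1 = s1, s 2 = s2, t 0 = t0, t 1 = t1, t 2 = t2 at hs ht hu ⊢
  revert r0 r1 r2 s0 s1 s2 t0 t1 t2 p q w
  decide +kernel

theorem exists_invariant_lift_dim_three (b : Module.Basis (Fin 3) (ZMod 2) V) (t : V ⊗[ZMod 2] V)
    (ht : ∀ g : G, ρ.tprod ρ g t - t ∈ (Na : Submodule (ZMod 2) (V ⊗[ZMod 2] V))) :
    ∃ t' : V ⊗[ZMod 2] V, t' - t ∈ (Na : Submodule (ZMod 2) (V ⊗[ZMod 2] V)) ∧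
      ∀ g : G, ρ.tprod ρ g t' - t' ∈ (Ns : Submodule (ZMod 2) (V ⊗[ZMod 2] V)) := by
  classical
  set p := cd b 0 1 t + cd b 1 0 t with hp
  set q := cd b 0 2 t + cd b 2 0 t with hq
  set w := cd b 1 2 t + cd b 2 1 t with hw
  refine ⟨p • (b 0 ⊗ₜ[ZMod 2] b 1) + q • (b 0 ⊗ₜ[ZMod 2] b 2) + w • (b 1 ⊗ₜ[ZMod 2] b 2) +
    ((p + q + p * q) • (b 0 ⊗ₜ[ZMod 2] b 0) + (p + w + p * w) • (b 1 ⊗ₜ[ZMod 2] b 1) +
      (q + w + q * w) • (b 2 ⊗ₜ[ZMod 2] b 2)), ?_, fun g => ?_⟩
  · refine (mem_Na_iff b _).2 fun i j => ?_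
    simp only [map_sub, map_add, map_smul, cd_tmul, b.repr_self, Finsupp.single_apply, smul_eq_mul, hp, hq, hw]
    fin_cases i <;> fin_cases j <;> simp <;> grind
  · have hg := (mem_Na_iff b _).1 (ht g)
    have e01 := hg 0 1; have e02 := hg 0 2; have e12 := hg 1 2
    simp only [Representation.tprod_apply, map_sub, cd_map, Fin.sum_univ_three] at e01 e02 e12
    set r : Fin 3 → ZMod 2 := fun k => b.repr (ρ g (b k)) 0 with hr
    set s : Fin 3 → ZMod 2 := fun k => b.repr (ρ g (b k)) 1 with hs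
    set u : Fin 3 → ZMod 2 := fun k => b.repr (ρ g (b k)) 2 with hu
    have hsq : ∀ x : ZMod 2, x * x = x := by decide
    obtain ⟨k0, k1, k2⟩ := cd_three r s u p q w
      (by simp only [hr, hs, hp, hq, hw]; grind) (by simp only [hr, hu, hp, hq, hw]; grind)
      (by simp only [hs, hu, hp, hq, hw]; grind)
    refine (mem_Ns_iff b _).2 ⟨fun i j => ?_, fun i => ?_⟩
    · simp only [Representation.tprod_apply, map_sub, map_add, map_smul, TensorProduct.map_tmul, cd_tmul,
        b.repr_self, Finsupp.single_apply, smul_eq_mul]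
      fin_cases i <;> fin_cases j <;> simp [hr, hs, hu] at k0 k1 k2 ⊢ <;> grind
    · simp only [Representation.tprod_apply, map_sub, map_add, map_smul, TensorProduct.map_tmul, cd_tmul,
        b.repr_self, Finsupp.single_apply, smul_eq_mul]
      fin_cases i <;> simp [hr, hs, hu] at k0 k1 k2 ⊢ <;> grind

end Groth.Agent.GalCohLib.SymSq
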